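import Mathlib.GroupTheory.Transfer
import Mathlib.GroupTheory.SpecificGroups.KleinFour
import Mathlib.GroupTheory.Perm.Cycle.Type
import Cfsg.Agent.Lib.Involutions

/-!
Involution classes of groups with a Klein four Sylow 2-subgroup.
-/

set_option autoImplicit false
set_option linter.unusedSectionVars false

namespace CfsgLib.InvCount

open Subgroup

variable {G : Type*} [Group G] [Finite G]

theorem klein_comm (P : Sylow 2 G) (hP : IsKleinFour (P : Subgroup G)) : IsMulCommutative (P : Subgroup G) :=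
  ⟨⟨fun a b => by
    haveI := hP
    exact mul_comm_of_exponent_two IsKleinFour.exponent_two a b⟩⟩

theorem klein_card (P : Sylow 2 G) (hP : IsKleinFour (P : Subgroup G)) : Nat.card (P : Subgroup G) = 4 := hP.card_four

theorem klein_classes (P : Sylow 2 G) (hP : IsKleinFour (P : Subgroup G)) :
    (Nat.card {C : ConjClasses G // ∃ t : G, orderOf t = 2 ∧ ConjClasses.mk t = C} = 3 ∧
      ∃ N : Subgroup G, N.Normal ∧ Subgroup.IsComplement' N (P : Subgroup G)) ∨
    (Nat.card {C : ConjClasses G // ∃ t : G, orderOf t = 2 ∧ ConjClasses.mk t = C} = 1 ∧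
      ¬ ∃ N : Subgroup G, N.Normal ∧ Subgroup.IsComplement' N (P : Subgroup G)) := by
  classical
  haveI : Fact (Nat.Prime 2) := ⟨Nat.prime_two⟩
  haveI := klein_comm P hP
  haveI := Fintype.ofFinite (P : Subgroup G)
  have hsq : ∀ x ∈ (P : Subgroup G), x * x = 1 := fun x hx => by
    have h := Monoid.pow_exponent_eq_one (⟨x, hx⟩ : (P : Subgroup G))
    rw [hP.exponent_two, pow_two] at h
    exact congrArg Subtype.val h
  have inP : ∀ t : G, orderOf t = 2 → ∃ x ∈ (P : Subgroup G), IsConj x t := by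
    intro t ht
    obtain ⟨Q, hQ⟩ := (IsPGroup.of_card (G := Subgroup.zpowers t) (n := 1) (by rw [Nat.card_zpowers, ht, pow_one]) :
      IsPGroup 2 ↥(Subgroup.zpowers t)).exists_le_sylow
    obtain ⟨g, hg⟩ := MulAction.exists_smul_eq G P Q
    have hm : t ∈ ((g • P : Sylow 2 G) : Subgroup G) := by rw [hg]; exact hQ (Subgroup.mem_zpowers t)
    rw [Sylow.coe_subgroup_smul] at hm
    obtain ⟨x, hx, e⟩ := hm
    exact ⟨x, hx, isConj_iff.mpr ⟨g, e⟩⟩
  -- the three involutions of `P`
  have hcard : Nat.card {x : (P : Subgroup G) // x ≠ 1} = 3 := by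
    rw [Nat.card_eq_fintype_card, Fintype.card_subtype_compl, Fintype.card_subtype_eq, ← Nat.card_eq_fintype_card,
      klein_card P hP]
  let f : {x : (P : Subgroup G) // x ≠ 1} → {C : ConjClasses G // ∃ t : G, orderOf t = 2 ∧ ConjClasses.mk t = C} := fun x =>
    ⟨ConjClasses.mk (x : G), x, Involutions.orderOf_eq_two_iff'.mpr ⟨hsq _ x.1.2, fun e => x.2 (Subtype.ext e)⟩, rfl⟩
  have hfs : Function.Surjective f := by
    rintro ⟨C, t, ht, rfl⟩
    obtain ⟨x, hx, hc⟩ := inP t ht
    refine ⟨⟨⟨x, hx⟩, fun e => ?_⟩, Subtype.ext (ConjClasses.mk_eq_mk_iff_isConj.mpr hc)⟩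
    have e' : x = 1 := congrArg Subtype.val e
    subst e'
    obtain ⟨g, hg⟩ := isConj_iff.mp hc
    rw [mul_one, mul_inv_cancel] at hg
    rw [← hg, orderOf_one] at ht
    omega
  by_cases hN : Subgroup.normalizer ((P : Subgroup G) : Set G) ≤ Subgroup.centralizer ((P : Subgroup G) : Set G)
  · refine Or.inl ⟨?_, ⟨_, inferInstance, MonoidHom.ker_transferSylow_isComplement' P hN⟩⟩
    rw [← hcard]
    refine (Nat.card_eq_of_bijective f ⟨?_, hfs⟩).symm
    intro a b e
    obtain ⟨g, hg⟩ := isConj_iff.mp (ConjClasses.mk_eq_mk_iff_isConj.mp (congrArg Subtype.val e))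
    have hb : g⁻¹⁻¹ * (a : G) * g⁻¹ ∈ (P : Subgroup G) := by rw [inv_inv, hg]; exact b.1.2
    obtain ⟨n, hn, hne⟩ := P.conj_eq_normalizer_conj_of_mem (a : G) g⁻¹ a.1.2 hb
    rw [inv_inv, hg] at hne
    refine Subtype.ext (Subtype.ext ?_)
    rw [hne, mul_assoc, hN hn (a : G) a.1.2, inv_mul_cancel_left]
  · obtain ⟨n, hn, hnc⟩ := SetLike.not_le_iff_exists.mp hN
    obtain ⟨x, hx, hxn⟩ : ∃ x ∈ (P : Subgroup G), n * x * n⁻¹ ≠ x := by
      by_contra h
      push Not at h
      exact hnc fun x hx => (mul_inv_eq_iff_eq_mul.mp (h x hx)).symm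
    set y := n * x * n⁻¹ with hy
    set w := n * y * n⁻¹ with hw
    have hyP : y ∈ (P : Subgroup G) := (Subgroup.mem_normalizer_iff.mp hn x).mp hx
    have hwP : w ∈ (P : Subgroup G) := (Subgroup.mem_normalizer_iff.mp hn y).mp hyP
    -- a 2-element of the normalizer centralizes `P`
    have hwx : w ≠ x := by
      intro e
      obtain ⟨k, m, hm, hk⟩ := Nat.exists_eq_pow_mul_and_not_dvd (orderOf_pos n).ne' 2 (by norm_num)
      have h2 : IsPGroup 2 ↥(Subgroup.zpowers (n ^ m)) := by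
        refine IsPGroup.of_card_dvd_pow (n := k) ?_
        rw [Nat.card_zpowers]
        exact orderOf_dvd_of_pow_eq_one (by rw [← pow_mul, mul_comm, ← hk, pow_orderOf_eq_one])
      have hle : Subgroup.zpowers (n ^ m) ≤ (P : Subgroup G) := by
        have h3 : IsPGroup 2 ↥(Subgroup.zpowers (n ^ m) ⊔ (P : Subgroup G)) :=
          h2.to_sup_of_normal_right' P.2 (Subgroup.zpowers_le.mpr (Subgroup.pow_mem _ hn m))
        exact le_sup_left.trans (P.3 h3 le_sup_right).le
      have hodd : Odd m := Nat.not_even_iff_odd.mp fun h => hm h.two_dvd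
      obtain ⟨i, rfl⟩ := hodd
      have h1 : Commute (n ^ 2) x := by
        show n ^ 2 * x = x * n ^ 2
        rw [pow_two, ← mul_inv_eq_iff_eq_mul]
        calc n * n * x * (n * n)⁻¹ = n * (n * x * n⁻¹) * n⁻¹ := by group
          _ = x := by rw [← hy, ← hw, e]
      have h4 : Commute (n ^ (2 * i + 1)) x :=
        congrArg Subtype.val (IsMulCommutative.is_comm.comm (⟨_, hle (Subgroup.mem_zpowers _)⟩ : (P : Subgroup G)) ⟨x, hx⟩)
      have h5 : Commute (((n ^ 2) ^ i)⁻¹ * n ^ (2 * i + 1)) x := ((h1.pow_left i).inv_left).mul_left h4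
      rw [← pow_mul, pow_succ, inv_mul_cancel_left] at h5
      exact hxn (by rw [hy, h5.eq, mul_inv_cancel_right])
    have hwy : w ≠ y := fun e => hxn (by
      have := congrArg (fun t => n⁻¹ * t * n) e
      simpa [hw, hy, mul_assoc] using this)
    have ne1 : x ≠ 1 := fun e => hxn (by rw [hy, e]; group)
    have ny1 : y ≠ 1 := fun e => ne1 (by
      have := congrArg (fun t => n⁻¹ * t * n) e
      simpa [hy, mul_assoc] using this)
    have nw1 : w ≠ 1 := fun e => ny1 (by
      have := congrArg (fun t => n⁻¹ * t * n) e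
      simpa [hw, mul_assoc] using this)
    have hall : ∀ z ∈ (P : Subgroup G), z ≠ 1 → IsConj x z := by
      intro z hz hz1
      have h3 : ({⟨⟨x, hx⟩, fun e => ne1 (congrArg Subtype.val e)⟩, ⟨⟨y, hyP⟩, fun e => ny1 (congrArg Subtype.val e)⟩,
          ⟨⟨w, hwP⟩, fun e => nw1 (congrArg Subtype.val e)⟩} : Finset {x : (P : Subgroup G) // x ≠ 1}) = Finset.univ := by
        refine Finset.eq_univ_of_card _ ?_
        rw [← Nat.card_eq_fintype_card, hcard, Finset.card_eq_three]
        exact ⟨_, _, _, fun e => hxn (congrArg (fun t : {x : (P : Subgroup G) // x ≠ 1} => (t : G)) e).symm,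
          fun e => hwx (congrArg (fun t : {x : (P : Subgroup G) // x ≠ 1} => (t : G)) e).symm,
          fun e => hwy (congrArg (fun t : {x : (P : Subgroup G) // x ≠ 1} => (t : G)) e).symm, rfl⟩
      have h4 := h3.ge (Finset.mem_univ (⟨⟨z, hz⟩, fun e => hz1 (congrArg Subtype.val e)⟩ : {x : (P : Subgroup G) // x ≠ 1}))
      simp only [Finset.mem_insert, Finset.mem_singleton, Subtype.mk.injEq] at h4
      rcases h4 with rfl | rfl | rfl
      · exact IsConj.refl _
      · exact isConj_iff.mpr ⟨n, rfl⟩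
      · exact (isConj_iff.mpr ⟨n, rfl⟩ : IsConj x y).trans (isConj_iff.mpr ⟨n, rfl⟩)
    refine Or.inr ⟨?_, ?_⟩
    · refine Nat.card_eq_one_iff_unique.mpr ⟨⟨fun a b => ?_⟩, ⟨f ⟨⟨x, hx⟩, fun e => ne1 (congrArg Subtype.val e)⟩⟩⟩
      obtain ⟨a', rfl⟩ := hfs a
      obtain ⟨b', rfl⟩ := hfs b
      exact Subtype.ext (ConjClasses.mk_eq_mk_iff_isConj.mpr
        ((hall _ a'.1.2 fun e => a'.2 (Subtype.ext e)).symm.trans (hall _ b'.1.2 fun e => b'.2 (Subtype.ext e))))
    · rintro ⟨N, hNn, hc⟩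
      refine hxn ?_
      haveI := hNn
      have hyx : y * x⁻¹ ∈ N := by
        obtain ⟨⟨a, b⟩, hab, -⟩ := hc.existsUnique n
        have hab' : (a : G) * b = n := hab
        have hbx : (b : G) * x * (b : G)⁻¹ = x := by
          rw [show (b : G) * x = x * b from congrArg Subtype.val (IsMulCommutative.is_comm.comm b ⟨x, hx⟩), mul_inv_cancel_right]
        rw [hy, ← hab', show (a : G) * b * x * ((a : G) * b)⁻¹ = a * ((b : G) * x * (b : G)⁻¹) * (a : G)⁻¹ by group, hbx,
          show (a : G) * x * (a : G)⁻¹ * x⁻¹ = a * (x * (a : G)⁻¹ * x⁻¹) by group]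
        exact N.mul_mem a.2 (hNn.conj_mem _ (N.inv_mem a.2) x)
      exact mul_inv_eq_one.mp (Subgroup.disjoint_def.mp hc.disjoint hyx (mul_mem hyP (inv_mem hx)))

end CfsgLib.InvCount
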