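import Cfsg.Agent.Lib.Involutions
import Mathlib.GroupTheory.Index
import Mathlib.GroupTheory.GroupAction.Quotient
import Mathlib.GroupTheory.Perm.Cycle.Type
import Mathlib.GroupTheory.Solvable
import Mathlib.GroupTheory.Sylow
import Mathlib.GroupTheory.Subgroup.Simple
import Mathlib.Tactic.Linarith
import Mathlib.Tactic.Ring
import Mathlib.Data.Set.Finite.Lemmas

/-!
The counting of pairs of involutions (Brauer-Fowler).
-/

set_option autoImplicit false
set_option linter.unusedSectionVars false

namespace CfsgLib.InvCount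

open Subgroup
open CfsgLib.Involutions (mul_self_eq_one_of_orderOf inv_eq_self_of_orderOf orderOf_eq_two_iff')

variable {G : Type*} [Group G] [Finite G]

theorem exists_inv (h : Even (Nat.card G)) : ∃ t : G, orderOf t = 2 := exists_prime_orderOf_dvd_card' 2 h.two_dvd

theorem fiber_le_centralizer (x : G) :
    Nat.card {s : G // orderOf s = 2 ∧ orderOf (s * x) = 2} ≤ Nat.card (centralizer ({x} : Set G)) := by
  rcases isEmpty_or_nonempty {s : G // orderOf s = 2 ∧ orderOf (s * x) = 2} with h | ⟨⟨s₀, h₀, h₀'⟩⟩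
  · simp
  have key : ∀ s : G, orderOf s = 2 → orderOf (s * x) = 2 → s * x * s = x⁻¹ := fun s hs hsx => by
    have h := mul_self_eq_one_of_orderOf hsx
    rw [← mul_assoc] at h
    exact eq_inv_of_mul_eq_one_left h
  refine Nat.card_le_card_of_injective (fun s => ⟨s₀ * s, ?_⟩) (fun a b e => Subtype.ext
    (mul_left_cancel (congrArg Subtype.val e)))
  have e1 := key s s.2.1 s.2.2
  have e2 := key s₀ h₀ h₀'
  have hs := mul_self_eq_one_of_orderOf s.2.1
  have hs₀ := mul_self_eq_one_of_orderOf h₀
  refine mem_centralizer_singleton_iff.mpr ?_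
  calc s₀ * s * x = s₀ * (s * x * s) * s := by simp [mul_assoc, hs]
    _ = s₀ * x⁻¹ * s := by rw [e1]
    _ = s₀ * (s₀ * x * s₀) * s := by rw [e2]
    _ = x * (s₀ * s) := by simp [← mul_assoc, hs₀]

theorem fiber_involution {x : G} (hx : orderOf x = 2) :
    Nat.card {s : G // orderOf s = 2 ∧ orderOf (s * x) = 2} + 2 ≤ Nat.card (centralizer ({x} : Set G)) := by
  classical
  have hx' := inv_eq_self_of_orderOf hx
  let f : Option (Option {s : G // orderOf s = 2 ∧ orderOf (s * x) = 2}) → centralizer ({x} : Set G)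
    | none => 1
    | some none => ⟨x, mem_centralizer_singleton_iff.mpr rfl⟩
    | some (some s) => ⟨s, mem_centralizer_singleton_iff.mpr (by
        have h := inv_eq_self_of_orderOf s.2.2
        rw [mul_inv_rev, hx', inv_eq_self_of_orderOf s.2.1] at h
        exact h.symm)⟩
  have hinj : Function.Injective f := by
    rintro (_ | _ | ⟨s, hs, hsx⟩) (_ | _ | ⟨t, ht, htx⟩) e <;>
      first
        | rfl
        | (have e' := congrArg Subtype.val e; dsimp only [f] at e'; push_cast at e'; first
            | (rw [← e', orderOf_one] at hx; omega)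
            | (rw [e', orderOf_one] at hx; omega)
            | (rw [← e', orderOf_one] at ht; omega)
            | (rw [e', orderOf_one] at hs; omega)
            | (rw [← e', mul_self_eq_one_of_orderOf hx, orderOf_one] at htx; omega)
            | (rw [e', mul_self_eq_one_of_orderOf hx, orderOf_one] at hsx; omega)
            | (subst e'; rfl))
  have h := Nat.card_le_card_of_injective f hinj
  rwa [Finite.card_option, Finite.card_option] at h

/-- The extended centralizer of `x`. -/
def extCentralizer (x : G) : Subgroup G where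
  carrier := {g | g * x * g⁻¹ = x ∨ g * x * g⁻¹ = x⁻¹}
  one_mem' := Or.inl (by simp)
  mul_mem' := by
    intro a b ha hb
    have e : a * b * x * (a * b)⁻¹ = a * (b * x * b⁻¹) * a⁻¹ := by group
    have e' : a * x⁻¹ * a⁻¹ = (a * x * a⁻¹)⁻¹ := by group
    simp only [Set.mem_setOf_eq] at ha hb ⊢
    rw [e]
    rcases hb with hb | hb <;> rw [hb]
    · exact ha
    · rw [e']
      rcases ha with ha | ha <;> rw [ha]
      · exact Or.inr rfl
      · exact Or.inl (inv_inv x)
  inv_mem' := by
    intro a ha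
    simp only [Set.mem_setOf_eq] at ha ⊢
    rcases ha with ha | ha
    · left
      conv_lhs => rw [← ha]
      group
    · right
      rw [show a⁻¹ * x * a⁻¹⁻¹ = (a⁻¹ * x⁻¹ * a)⁻¹ by group]
      conv_lhs => rw [← ha]
      group

theorem two_mul_centralizer_le {x s : G} (hs : orderOf s = 2) (hsx : orderOf (s * x) = 2) (hx2 : x * x ≠ 1) :
    2 * Nat.card (centralizer ({x} : Set G)) = Nat.card (extCentralizer x) := by
  have hinv : s * x * s⁻¹ = x⁻¹ := by
    have h := mul_self_eq_one_of_orderOf hsx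
    rw [← mul_assoc] at h
    rw [inv_eq_self_of_orderOf hs]
    exact eq_inv_of_mul_eq_one_left h
  have hc : ∀ c : centralizer ({x} : Set G), (c : G) * x * (c : G)⁻¹ = x := fun c => by
    rw [mem_centralizer_singleton_iff.mp c.2, mul_inv_cancel_right]
  let f : centralizer ({x} : Set G) ⊕ centralizer ({x} : Set G) → extCentralizer x
    | Sum.inl c => ⟨c, Or.inl (hc c)⟩
    | Sum.inr c => ⟨s * c, Or.inr (by
        rw [show s * (c : G) * x * (s * (c : G))⁻¹ = s * ((c : G) * x * (c : G)⁻¹) * s⁻¹ by group, hc, hinv])⟩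
  have hne : x ≠ x⁻¹ := fun e => hx2 (mul_eq_one_iff_eq_inv.mpr e)
  have hbij : Function.Bijective f := by
    constructor
    · rintro (a | a) (b | b) e <;> have e' : _ = _ := congrArg Subtype.val e
      · exact congrArg Sum.inl (Subtype.ext e')
      · exfalso
        have h := hc a
        rw [show (a : G) = s * b from e', show s * (b : G) * x * (s * (b : G))⁻¹ = s * ((b : G) * x * (b : G)⁻¹) * s⁻¹ by group,
          hc, hinv] at h
        exact hne h.symm
      · exfalso
        have h := hc b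
        rw [← show s * (a : G) = b from e', show s * (a : G) * x * (s * (a : G))⁻¹ = s * ((a : G) * x * (a : G)⁻¹) * s⁻¹ by group,
          hc, hinv] at h
        exact hne h.symm
      · exact congrArg Sum.inr (Subtype.ext (mul_left_cancel e'))
    · rintro ⟨g, hg | hg⟩
      · exact ⟨Sum.inl ⟨g, mem_centralizer_singleton_iff.mpr (mul_inv_eq_iff_eq_mul.mp hg)⟩, rfl⟩
      · refine ⟨Sum.inr ⟨s⁻¹ * g, mem_centralizer_singleton_iff.mpr (mul_inv_eq_iff_eq_mul.mp ?_)⟩,
          Subtype.ext (mul_inv_cancel_left s g)⟩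
        rw [show s⁻¹ * g * x * (s⁻¹ * g)⁻¹ = s⁻¹ * (g * x * g⁻¹) * s by group, hg, ← hinv]
        group
  rw [← Nat.card_eq_of_bijective f hbij, Nat.card_sum, two_mul]

theorem centralizer_index_two {x s : G} (hs : orderOf s = 2) (hsx : orderOf (s * x) = 2) (hx2 : x * x ≠ 1)
    (htop : extCentralizer x = ⊤) : (centralizer ({x} : Set G)).index = 2 := by
  have h := two_mul_centralizer_le hs hsx hx2
  rw [htop, Subgroup.card_top, ← (centralizer ({x} : Set G)).card_mul_index, mul_comm] at h
  exact (Nat.eq_of_mul_eq_mul_left Nat.card_pos h).symm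

/-- The Brauer-Fowler inequality. -/
theorem count (hZ : Odd (Nat.card (center G))) (M : ℕ) (hM : ∀ H : Subgroup G, H ≠ ⊤ → Nat.card H ≤ M)
    (h2 : ∀ H : Subgroup G, H.index ≠ 2) (hev : Even (Nat.card G)) :
    2 * Nat.card {t : G // orderOf t = 2} ^ 2 < M * (Nat.card G + Nat.card {t : G // orderOf t = 2}) := by
  classical
  have := Fintype.ofFinite G
  set n := Nat.card {t : G // orderOf t = 2} with hn
  let β : G → ℕ := fun x => Nat.card {s : G // orderOf s = 2 ∧ orderOf (s * x) = 2}
  have hsum : ∑ x : G, β x = n * n := by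
    rw [← Nat.card_sigma, hn, ← Nat.card_prod]
    refine Nat.card_congr ⟨fun p => (⟨p.2, p.2.2.1⟩, ⟨(p.2 : G) * p.1, p.2.2.2⟩), fun q =>
      ⟨(q.1 : G) * (q.2 : G), ⟨(q.1 : G), q.1.2, by
        rw [← mul_assoc, mul_self_eq_one_of_orderOf q.1.2, one_mul]; exact q.2.2⟩⟩, ?_, ?_⟩
    · rintro ⟨x, s, hs, hsx⟩
      refine Sigma.subtype_ext ?_ rfl
      show s * (s * x) = x
      rw [← mul_assoc, mul_self_eq_one_of_orderOf hs, one_mul]
    · rintro ⟨⟨s, hs⟩, t, ht⟩
      refine Prod.ext rfl (Subtype.ext ?_)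
      show s * (s * t) = t
      rw [← mul_assoc, mul_self_eq_one_of_orderOf hs, one_mul]
  have hβ1 : β 1 = n := Nat.card_congr (Equiv.subtypeEquivRight fun s => by rw [mul_one]; exact and_self_iff)
  have hMpos : 0 < M := by
    obtain ⟨t, ht⟩ := exists_inv hev
    refine Nat.lt_of_lt_of_le (Nat.card_pos (α := (⊥ : Subgroup G))) (hM ⊥ fun e => ?_)
    have : t ∈ (⊥ : Subgroup G) := e ▸ Subgroup.mem_top t
    rw [Subgroup.mem_bot] at this
    rw [this, orderOf_one] at ht
    omega
  have hnotop : ∀ x : G, orderOf x = 2 → centralizer ({x} : Set G) ≠ ⊤ := by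
    intro x hx e
    have hxZ : x ∈ center G := mem_center_iff.mpr fun g => mem_centralizer_singleton_iff.mp (e ▸ Subgroup.mem_top g)
    have h := Subgroup.orderOf_dvd_natCard _ hxZ
    rw [hx] at h
    exact Nat.not_even_iff_odd.mpr hZ (even_iff_two_dvd.mpr h)
  have hb : ∀ x : G, x ≠ 1 → (orderOf x = 2 → β x + 2 ≤ M) ∧ (orderOf x ≠ 2 → 2 * β x ≤ M) := by
    intro x hx1
    refine ⟨fun hx => (fiber_involution hx).trans (hM _ (hnotop x hx)), fun hx => ?_⟩
    rcases isEmpty_or_nonempty {s : G // orderOf s = 2 ∧ orderOf (s * x) = 2} with h | ⟨⟨s, hs, hsx⟩⟩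
    · simp [β]
    have hx2 : x * x ≠ 1 := fun e => hx (orderOf_eq_two_iff'.mpr ⟨e, hx1⟩)
    have htop : extCentralizer x ≠ ⊤ := fun e => h2 _ (centralizer_index_two hs hsx hx2 e)
    calc 2 * β x ≤ 2 * Nat.card (centralizer ({x} : Set G)) := Nat.mul_le_mul_left _ (fiber_le_centralizer x)
      _ = _ := two_mul_centralizer_le hs hsx hx2
      _ ≤ M := hM _ htop
  -- split the sum
  set I := Finset.univ.filter (fun x : G => orderOf x = 2) with hI
  set R := (Finset.univ.erase (1 : G)).filter (fun x : G => ¬ orderOf x = 2) with hR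
  have hIc : I.card = n := by rw [hn, Nat.card_eq_fintype_card, Fintype.card_subtype]
  have hIeq : (Finset.univ.erase (1 : G)).filter (fun x : G => orderOf x = 2) = I := by
    ext x
    simp only [hI, Finset.mem_filter, Finset.mem_erase, Finset.mem_univ, and_true, true_and, and_iff_right_iff_imp]
    intro h e
    rw [e, orderOf_one] at h
    omega
  have hsplit : n * n = n + (∑ x ∈ I, β x + ∑ x ∈ R, β x) := by
    rw [← hsum, ← Finset.add_sum_erase Finset.univ β (Finset.mem_univ 1), hβ1,
      ← Finset.sum_filter_add_sum_filter_not (Finset.univ.erase (1 : G)) (fun x => orderOf x = 2) β, hIeq]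
  have h1 : ∑ x ∈ I, (β x + 2) ≤ n * M := by
    rw [← hIc, ← smul_eq_mul]
    refine Finset.sum_le_card_nsmul _ _ _ fun x hx => ?_
    have hx' : orderOf x = 2 := (Finset.mem_filter.mp hx).2
    exact (hb x (fun e => by rw [e, orderOf_one] at hx'; omega)).1 hx'
  have h3 : ∑ x ∈ R, 2 * β x ≤ R.card * M := by
    rw [← smul_eq_mul]
    refine Finset.sum_le_card_nsmul _ _ _ fun x hx => ?_
    rw [hR, Finset.mem_filter, Finset.mem_erase] at hx
    exact (hb x hx.1.1).2 hx.2
  rw [Finset.sum_add_distrib, Finset.sum_const, hIc, smul_eq_mul] at h1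
  rw [← Finset.mul_sum] at h3
  have hcardR : I.card + R.card + 1 = Nat.card G := by
    rw [← hIeq, Finset.card_filter_add_card_filter_not, Finset.card_erase_of_mem (Finset.mem_univ _),
      Finset.card_univ, Nat.card_eq_fintype_card]
    have := Fintype.card_pos (α := G)
    omega
  have hn0 : 0 < n := by
    obtain ⟨t, ht⟩ := exists_inv hev
    exact Nat.card_pos_iff.mpr ⟨⟨⟨t, ht⟩⟩, inferInstance⟩
  rw [hIc] at hcardR
  rw [pow_two, ← hcardR]
  nlinarith

theorem exists_max_proper [Nontrivial G] :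
    ∃ H : Subgroup G, H ≠ ⊤ ∧ ∀ K : Subgroup G, K ≠ ⊤ → Nat.card K ≤ Nat.card H := by
  obtain ⟨H, hH, hmax⟩ := Set.exists_max_image {H : Subgroup G | H ≠ ⊤} (fun H => Nat.card H) (Set.toFinite _)
    ⟨⊥, bot_ne_top⟩
  exact ⟨H, hH, fun K hK => hmax K hK⟩

theorem brauer_fowler (hev : Even (Nat.card G)) (hZ : Odd (Nat.card (center G))) :
    ∃ H : Subgroup G, H ≠ ⊤ ∧ (H.index = 2 ∨
      2 * H.index * Nat.card {t : G // orderOf t = 2} ^ 2 <
        Nat.card G * (Nat.card G + Nat.card {t : G // orderOf t = 2})) := by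
  by_cases h2 : ∃ H : Subgroup G, H.index = 2
  · obtain ⟨H, hH⟩ := h2
    exact ⟨H, fun e => (by rw [e, Subgroup.index_top] at hH; omega), Or.inl hH⟩
  push Not at h2
  obtain ⟨t, ht⟩ := exists_inv hev
  haveI : Nontrivial G := nontrivial_of_ne t 1 fun e => by rw [e, orderOf_one] at ht; omega
  obtain ⟨H, hH, hmax⟩ := exists_max_proper (G := G)
  refine ⟨H, hH, Or.inr ?_⟩
  have h := count hZ (Nat.card H) hmax h2 hev
  calc 2 * H.index * Nat.card {t : G // orderOf t = 2} ^ 2 = H.index * (2 * Nat.card {t : G // orderOf t = 2} ^ 2) := by ring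
    _ < H.index * (Nat.card H * (Nat.card G + Nat.card {t : G // orderOf t = 2})) :=
        Nat.mul_lt_mul_of_pos_left h (Nat.pos_of_ne_zero Subgroup.index_ne_zero_of_finite)
    _ = _ := by rw [← H.card_mul_index]; ring

/-- The conjugacy class of an involution. -/
theorem card_le_mul {t : G} (ht : orderOf t = 2) :
    Nat.card G ≤ Nat.card {t : G // orderOf t = 2} * Nat.card (centralizer ({t} : Set G)) := by
  rw [← (centralizer ({t} : Set G)).index_mul_card, Subgroup.index_eq_card]
  refine Nat.mul_le_mul_right _ ?_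
  refine Nat.card_le_card_of_injective (fun q => ⟨q.out * t * q.out⁻¹, by rw [Involutions.orderOf_conj, ht]⟩) ?_
  intro a b e
  have e' : a.out * t * a.out⁻¹ = b.out * t * b.out⁻¹ := congrArg Subtype.val e
  rw [← QuotientGroup.out_eq' a, ← QuotientGroup.out_eq' b, QuotientGroup.eq, mem_centralizer_singleton_iff]
  calc a.out⁻¹ * b.out * t = a.out⁻¹ * (b.out * t * b.out⁻¹) * b.out := by group
    _ = a.out⁻¹ * (a.out * t * a.out⁻¹) * b.out := by rw [e']
    _ = _ := by group

theorem center_simple [IsSimpleGroup G] (hgt : 2 < Nat.card G) (hev : Even (Nat.card G)) :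
    Odd (Nat.card (center G)) := by
  rcases Subgroup.Normal.eq_bot_or_eq_top (inferInstance : (center G).Normal) with h | h
  · rw [h, Subgroup.card_bot]; exact odd_one
  · exfalso
    obtain ⟨t, ht⟩ := exists_inv hev
    have htc : t ∈ center G := h ▸ Subgroup.mem_top t
    haveI hn : (Subgroup.zpowers t).Normal := ⟨fun x hx g => by
      rw [(mem_center_iff.mp (Subgroup.zpowers_le.mpr htc hx) g), mul_inv_cancel_right]; exact hx⟩
    rcases Subgroup.Normal.eq_bot_or_eq_top hn with h' | h'
    · rw [Subgroup.zpowers_eq_bot] at h'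
      rw [h', orderOf_one] at ht; omega
    · rw [← Subgroup.card_top (G := G), ← h', Nat.card_zpowers, ht] at hgt
      omega

end CfsgLib.InvCount
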